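import Cfsg.Agent.PERM.TC3.Defs

set_option autoImplicit false
set_option linter.unusedSectionVars false

namespace CL.TC3.Aff2
open Subgroup

variable {V : Type} [AddCommGroup V]

/-- additive automorphisms as permutations -/
def tp : Aut V →* Equiv.Perm V := MonoidHom.mk' (fun g => g.toEquiv) fun _ _ => rfl

theorem tp_inj : Function.Injective (tp : Aut V →* Equiv.Perm V) := fun _ _ e =>
  LinearEquiv.ext fun v => congrArg (fun s : Equiv.Perm V => s v) e

/-- the affine group with linear part `G` -/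
def AG (G : Subgroup (Aut V)) : Subgroup (Equiv.Perm V) where
  carrier := {s | ∃ g ∈ G, ∀ v, s v = g v + s 0}
  one_mem' := ⟨1, one_mem _, fun v => (add_zero v).symm⟩
  mul_mem' := by
    rintro s t ⟨g, hg, e⟩ ⟨g', hg', e'⟩
    refine ⟨g * g', mul_mem hg hg', fun v => ?_⟩
    rw [Equiv.Perm.mul_apply, Equiv.Perm.mul_apply, e, e (t 0), e', map_add, mul_ap, add_assoc]
  inv_mem' := by
    rintro s ⟨g, hg, e⟩
    refine ⟨g⁻¹, inv_mem hg, fun v => s.injective ?_⟩
    have h1 := e (s⁻¹ 0)
    have h0 : ∀ x, s (s⁻¹ x) = x := s.apply_symm_apply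
    rw [h0] at h1
    rw [h0, e, map_add, ap_inv, add_assoc, ← h1, add_zero]

/-- the linear part -/
noncomputable def lin (G : Subgroup (Aut V)) : AG G →* G :=
  MonoidHom.mk' (fun s => ⟨s.2.choose, s.2.choose_spec.1⟩) fun s t => Subtype.ext (LinearEquiv.ext fun v => by
    have h1 := (s * t).2.choose_spec.2 v
    have h2 := s.2.choose_spec.2
    have h3 := t.2.choose_spec.2 v
    change s.1 (t.1 v) = _ + s.1 (t.1 0) at h1
    rw [h2, h2 (t.1 0), h3, map_add, add_assoc, add_left_inj] at h1
    exact h1.symm)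

theorem lin_spec (G : Subgroup (Aut V)) (s : AG G) (v : V) : s.1 v = (lin G s).1 v + s.1 0 := s.2.choose_spec.2 v

theorem solv {G : Subgroup (Aut V)} (hG : Group.IsSolvable G) : Group.IsSolvable (AG G) := by
  have : Group.IsSolvable (lin G).ker := Group.isSolvable_of_comm fun a b => Subtype.ext (Subtype.ext (Equiv.ext fun v => by
    have ha := lin_spec G a.1
    have hb := lin_spec G b.1
    rw [show lin G a.1 = 1 from a.2] at ha
    rw [show lin G b.1 = 1 from b.2] at hb
    change a.1.1 (b.1.1 v) = b.1.1 (a.1.1 v)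
    rw [ha, hb v, hb (a.1.1 v), ha v]
    exact add_right_comm v _ _))
  exact Group.isSolvable_of_ker_le_range (lin G).ker.subtype (lin G) (by rw [range_subtype])

theorem lih_of_ih {n : ℕ} (ih : IH n) : LIH n := by
  intro V _ _ hV G hG
  have := ih V hV (AG G) ((cl G).map tp) (solv hG) (by
    rintro _ ⟨h, hh, rfl⟩ a b c
    obtain ⟨g, hg, e1, e2⟩ := hh (b - a) (c - a)
    rw [map_sub, map_sub] at e1 e2
    refine ⟨Equiv.addRight (h a - g a) * tp g, ⟨g, hg, fun v => ?_⟩, ?_, ?_, ?_⟩
    · change g v + _ = g v + (g 0 + _)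
      rw [map_zero, zero_add]
    · change g a + (h a - g a) = h a
      abel
    · change g b + (h a - g a) = h b
      rw [eq_add_of_sub_eq e1]; abel
    · change g c + (h a - g a) = h c
      rw [eq_add_of_sub_eq e2]; abel)
  exact Group.isSolvable_of_isSolvable_injective (f := (equivMapOfInjective (cl G) tp tp_inj).toMonoidHom)
    (MulEquiv.injective _)

end CL.TC3.Aff2
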