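import Mathlib

/-! Hua's identity: an additive bijection compatible with inversion is multiplicative. -/

set_option autoImplicit false

namespace CL.TC3.Hua

theorem hua {K : Type} [Field K] {a b : K} (a0 : a ≠ 0) (b0 : b ≠ 0) (ab : a * b ≠ 1) :
    a - (a⁻¹ + (b⁻¹ - a)⁻¹)⁻¹ = a * a * b := by
  have h1 : 1 - a * b ≠ 0 := sub_ne_zero.2 ab.symm
  have e1 : b⁻¹ - a = (1 - a * b) / b := by field_simp
  have e2 : a⁻¹ + (b⁻¹ - a)⁻¹ = 1 / (a * (1 - a * b)) := by rw [e1]; field_simp; ring
  rw [e2]; field_simp; ring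

theorem mul {K : Type} [Field K] [Finite K] (h k : K →+ K) (hi : Function.Injective h) (h1 : h 1 = 1)
    (hk : ∀ v, v ≠ 0 → k v⁻¹ = (h v)⁻¹) (a b : K) : h (a * b) = h a * h b := by
  have hk' : ∀ v, k v⁻¹ = (h v)⁻¹ := fun v => by
    by_cases hv : v = 0
    · simp [hv]
    · exact hk v hv
  have kh : ∀ v, h v⁻¹ = (k v)⁻¹ := fun v => by
    have := hk' v⁻¹
    rw [inv_inv] at this
    rw [this, inv_inv]
  have h0 : ∀ v, v ≠ 0 → h v ≠ 0 := fun v hv e => hv (hi (e.trans (map_zero h).symm))
  have k0 : ∀ v, v ≠ 0 → k v ≠ 0 := fun v hv e => by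
    have := kh v
    rw [e, inv_zero] at this
    exact h0 _ (inv_ne_zero hv) this
  have sq : ∀ a b, h (a * a * b) = h a * h a * k b := fun a b => by
    by_cases a0 : a = 0
    · simp [a0]
    by_cases b0 : b = 0
    · simp [b0]
    by_cases ab : a * b = 1
    · have : b = a⁻¹ := eq_inv_of_mul_eq_one_right ab
      rw [mul_assoc, ab, mul_one, this, hk', mul_assoc, mul_inv_cancel₀ (h0 a a0), mul_one]
    have ab' : h a * k b ≠ 1 := fun e => by
      have : h a = h b⁻¹ := by rw [kh]; exact eq_inv_of_mul_eq_one_left e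
      exact ab (by rw [hi this, inv_mul_cancel₀ b0])
    rw [← hua a0 b0 ab, ← hua (h0 a a0) (k0 b b0) ab', map_sub, kh, map_add, hk', hk', map_sub, kh]
  have e : ∀ b, k b = h b := fun b => by
    have := sq 1 b
    rw [h1] at this
    simpa using this.symm
  simp only [e] at sq
  by_cases two : (2 : K) = 0
  · have : CharP K 2 := (CharP.charP_iff_prime_eq_zero Nat.prime_two).2 (by exact_mod_cast two)
    obtain ⟨c, rfl⟩ : IsSquare a := FiniteField.isSquare_of_char_two (ringChar.eq K 2) a
    have := sq c 1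
    rw [mul_one, h1, mul_one] at this
    rw [sq, this]
  · have s1 := sq (a + 1) b
    have s2 := sq a b
    have : (a + 1) * (a + 1) * b = a * a * b + (a * b + a * b) + b := by ring
    rw [this, map_add, map_add, map_add, map_add, h1, s2] at s1
    apply mul_left_cancel₀ two
    linear_combination s1

end CL.TC3.Hua
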