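import Cfsg.Agent.PERM.TC3.Defs

set_option autoImplicit false
set_option linter.unusedSectionVars false

namespace CL.TC3
open Subgroup

namespace SemiB2

variable {K V : Type} [Field K] [Finite K] [AddCommGroup V] [Finite V] [Module K V]

/-- independence of two vectors -/
def Ind (K : Type) {V : Type} [Field K] [AddCommGroup V] [Module K V] (v w : V) : Prop :=
  ∀ a b : K, a • v + b • w = 0 → a = 0 ∧ b = 0

theorem Ind.symm {v w : V} (h : Ind K v w) : Ind K w v := fun a b e =>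
  (h b a (by rw [add_comm]; exact e)).symm

theorem ex {G : Subgroup (Aut V)} (hs : ∀ g ∈ G, Semi K g) {h : Aut V} (hh : h ∈ cl G) (c : K) (v : V) :
    ∃ t : K, h (c • v) = t • h v := by
  obtain ⟨g, hg, e1, e2⟩ := hh v (c • v)
  obtain ⟨σ, hσ⟩ := hs g hg
  exact ⟨σ c, by rw [← e2, hσ, e1]⟩

theorem ind {G : Subgroup (Aut V)} (hs : ∀ g ∈ G, Semi K g) {h : Aut V} (hh : h ∈ cl G) {v w : V}
    (i : Ind K v w) : Ind K (h v) (h w) := by
  obtain ⟨g, hg, e1, e2⟩ := hh v w
  obtain ⟨σ, hσ⟩ := hs g hg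
  intro a b e
  have e3 : g (σ.symm a • v + σ.symm b • w) = 0 := by
    rw [map_add, hσ, hσ, σ.apply_symm_apply, σ.apply_symm_apply, e1, e2, e]
  obtain ⟨h1, h2⟩ := i _ _ (g.map_eq_zero_iff.1 e3)
  exact ⟨σ.symm.map_eq_zero_iff.1 h1, σ.symm.map_eq_zero_iff.1 h2⟩

theorem eq_ind {G : Subgroup (Aut V)} (hs : ∀ g ∈ G, Semi K g) {h : Aut V} (hh : h ∈ cl G) {v w : V}
    (i : Ind K v w) {c s t : K} (e1 : h (c • v) = s • h v) (e2 : h (c • w) = t • h w) : s = t := by
  obtain ⟨u, hu⟩ := ex hs hh c (v + w)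
  rw [smul_add, map_add, map_add, e1, e2, smul_add] at hu
  have := ind hs hh i (s - u) (t - u) (by
    rw [sub_smul, sub_smul, sub_add_sub_comm, hu, sub_self])
  rw [sub_eq_zero.1 this.1, sub_eq_zero.1 this.2]

theorem third (d : 2 ≤ Module.finrank K V) {v : V} (hv : v ≠ 0) : ∃ x, Ind K v x := by
  obtain ⟨x, hx⟩ := exists_linearIndependent_pair_of_one_lt_finrank (R := K) (by omega) hv
  exact ⟨x, LinearIndependent.pair_iff.1 hx⟩

theorem eq_all {G : Subgroup (Aut V)} (hs : ∀ g ∈ G, Semi K g) (d : 2 ≤ Module.finrank K V) {h : Aut V}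
    (hh : h ∈ cl G) {v w : V} (hv : v ≠ 0) (hw : w ≠ 0) {c s t : K} (e1 : h (c • v) = s • h v)
    (e2 : h (c • w) = t • h w) : s = t := by
  by_cases i : Ind K v w
  · exact eq_ind hs hh i e1 e2
  obtain ⟨x, hx⟩ := third d hv
  obtain ⟨u, hu⟩ := ex hs hh c x
  rw [eq_ind hs hh hx e1 hu]
  refine (eq_ind hs hh (v := w) (w := x) ?_ e2 hu).symm
  simp only [Ind, not_forall] at i
  obtain ⟨a, b, e, n⟩ := i
  have hb : b ≠ 0 := by
    rintro rfl
    rw [zero_smul, add_zero] at e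
    exact n ⟨(smul_eq_zero.1 e).resolve_right hv, rfl⟩
  have ha : a ≠ 0 := by
    rintro rfl
    rw [zero_smul, zero_add] at e
    exact hb ((smul_eq_zero.1 e).resolve_right hw)
  have ew : w = (-(b⁻¹ * a)) • v := by
    rw [neg_smul, mul_smul, ← smul_neg, eq_inv_smul_iff₀ hb]
    exact eq_neg_of_add_eq_zero_right e
  intro a' b' e'
  rw [ew, smul_smul] at e'
  obtain ⟨h1, h2⟩ := hx _ _ e'
  exact ⟨(mul_eq_zero.1 h1).resolve_right (neg_ne_zero.2 (mul_ne_zero (inv_ne_zero hb) ha)), h2⟩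

theorem semi2 {G : Subgroup (Aut V)} (hs : ∀ g ∈ G, Semi K g) (d : 2 ≤ Module.finrank K V) {h : Aut V}
    (hh : h ∈ cl G) : Semi K h := by
  have : Nontrivial V := Module.nontrivial_of_finrank_pos (R := K) (by omega)
  obtain ⟨v0, h0⟩ := exists_ne (0 : V)
  have n0 : h v0 ≠ 0 := fun e => h0 (h.map_eq_zero_iff.1 e)
  choose τ hτ using fun c : K => ex hs hh c v0
  have all : ∀ (c : K) (v : V), h (c • v) = τ c • h v := fun c v => by
    by_cases hv : v = 0
    · rw [hv, smul_zero, map_zero, smul_zero]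
    obtain ⟨t, ht⟩ := ex hs hh c v
    rw [ht, eq_all hs d hh hv h0 ht (hτ c)]
  have inj : ∀ s t : K, s • h v0 = t • h v0 → s = t := fun s t e => smul_left_injective K n0 e
  let f : K →+* K :=
    { toFun := τ
      map_one' := inj _ _ (by rw [← all, one_smul, one_smul])
      map_mul' := fun a b => inj _ _ (by rw [← all, mul_smul, mul_smul, all, all])
      map_zero' := inj _ _ (by rw [← all, zero_smul, zero_smul, map_zero])
      map_add' := fun a b => inj _ _ (by rw [← all, add_smul, add_smul, map_add, all, all]) }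
  exact ⟨RingEquiv.ofBijective f (Finite.injective_iff_bijective.1 f.injective), all⟩

end SemiB2

end CL.TC3
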