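import Cfsg.Agent.PERM.TC3.Proj
import Cfsg.Agent.PERM.TC3.Ext
import Cfsg.Agent.CHAR.Burnside

set_option autoImplicit false
set_option linter.unusedSectionVars false

namespace CL.TC3.StN2
open Subgroup Pointwise

variable {K V M : Type} {r : ℕ} [Fact r.Prime] [Field K] [Finite K] [AddCommGroup V] [Finite V] [Nontrivial V]
  [Module K V] [AddCommGroup M] [Finite M] [Module (ZMod r) M] (P : PR K V M r)

/-- the line through `y` -/
def L (K : Type) [Field K] [Module K V] (y : V) : Set V := Set.range fun c : K => c • y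

theorem L_smul {c : K} (c0 : c ≠ 0) (y : V) : L K (c • y) = L K y := by
  ext v
  exact ⟨fun ⟨d, e⟩ => ⟨d * c, by rw [← e]; exact mul_smul _ _ _⟩, fun ⟨d, e⟩ => ⟨d * c⁻¹, by
    rw [← e]; simp only [smul_smul, inv_mul_cancel_right₀ c0]⟩⟩

theorem smul_L {h : Aut V} (hl : Lin K h) (y : V) : h • L K y = L K (h y) := by
  ext v
  constructor
  · rintro ⟨_, ⟨c, rfl⟩, rfl⟩
    exact ⟨c, (hl c y).symm⟩
  · rintro ⟨c, rfl⟩
    exact ⟨_, ⟨c, rfl⟩, hl c y⟩

theorem line {y : V} {x w : M} {h : Aut V} (y0 : y ≠ 0) {c : K} (e : h y = c • P.ρ x y) (hw : x - w ∈ P.St y) :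
    L K (h y) = L K (P.ρ w y) := by
  obtain ⟨d, hd⟩ := hw
  obtain ⟨a, a0, ha⟩ := P.mul w (x - w)
  have e1 := ha y
  rw [hd, P.lin, add_sub_cancel] at e1
  have e2 : h y = (c * a⁻¹ * d) • P.ρ w y := by
    rw [mul_smul, e1, e, smul_smul, inv_mul_cancel_right₀ a0]
  rw [e2]
  refine L_smul (fun c0 => y0 (h.injective ?_)) _
  rw [e2, c0, zero_smul, map_zero]

theorem solv_pres {u : V} (hu : P.MaxSt u) {N : Subgroup (Aut V)} (hl : ∀ h ∈ N, Lin K h)
    (ho : ∀ h ∈ N, ∀ v, ∃ x, ∃ c : K, h v = c • P.ρ x v)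
    (hp : ∀ h ∈ N, ∀ t, ∀ y ∈ P.E (P.St u) u t, h y ∈ P.E (P.St u) u t) : Group.IsSolvable N := by
  obtain ⟨y₁, y₂, -, -, an⟩ := P.aniso hu
  obtain ⟨top, -⟩ := P.exists_proj hu.1 le_rfl
  obtain ⟨n, hn⟩ := WellFoundedLT.antitone_chain_condition (derivedSeries_antitone N)
  have fx : ∀ x ∈ derivedSeries N n, ∀ t, ∀ y ∈ P.E (P.St u) u t, ∃ c : K, (x : Aut V) y = c • y := fun g hg t y hy => by
    by_cases y0 : y = 0
    · exact ⟨0, by rw [y0, map_zero, smul_zero]⟩
    have sub : MulAction.orbit N (L K y) ⊆ {L K (P.ρ 0 y), L K (P.ρ y₁ y), L K (P.ρ y₂ y), L K (P.ρ (y₁ + y₂) y)} := by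
      rintro _ ⟨h, rfl⟩
      obtain ⟨x, c, e⟩ := ho h h.2 y
      have k : ∀ b ∈ P.St u, P.β b x = 0 := fun b hb => by
        have := P.type_eq hu.1 le_rfl (fun c0 => y0 (h.1.injective (c0.trans (map_zero _).symm))) (hp h h.2 t y hy)
          (e ▸ Submodule.smul_mem _ c (P.ρ_mem_E x hy)) b hb
        rwa [map_add, left_eq_add] at this
      have le := P.le_St le_rfl hy
      have e0 : (fun m : N => m • L K y) h = L K (h.1 y) := smul_L (hl h h.2) y
      rw [e0]
      rcases an x k with m | m | m | m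
      · exact Or.inl (line P y0 e (le (by rwa [sub_zero])))
      · exact Or.inr (Or.inl (line P y0 e (le m)))
      · exact Or.inr (Or.inr (Or.inl (line P y0 e (le m))))
      · exact Or.inr (Or.inr (Or.inr (line P y0 e (le m))))
    have c4 : Nat.card (MulAction.orbit N (L K y)) ≤ 4 :=
      (Set.ncard_le_ncard sub).trans ((Set.ncard_insert_le _ _).trans (Nat.succ_le_succ ((Set.ncard_insert_le _ _).trans
        (Nat.succ_le_succ ((Set.ncard_insert_le _ _).trans (by simp))))))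
    obtain ⟨m, hm⟩ : Group.IsSolvable (Equiv.Perm (MulAction.orbit N (L K y))) :=
      CL.Char.isSolvable_of_card_dvd_pow_mul_pow (p := 2) (q := 3) (a := 3) (b := 1) Nat.prime_two Nat.prime_three (by
        rw [Nat.card_perm]; exact Nat.factorial_dvd_factorial (n := 4) c4)
    rw [hn (max n m) (le_max_left _ _)] at hg
    have := map_derivedSeries_le_derivedSeries (MulAction.toPermHom N (MulAction.orbit N (L K y))) m
      (mem_map_of_mem _ (derivedSeries_antitone N (le_max_right n m) hg))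
    rw [hm, mem_bot] at this
    have e : g • L K y = L K y :=
      congrArg (fun f : Equiv.Perm (MulAction.orbit N (L K y)) => (f ⟨L K y, MulAction.mem_orbit_self _⟩ : Set V)) this
    obtain ⟨c, hc⟩ : g.1 y ∈ L K y := by
      rw [← e, show g • L K y = L K (g.1 y) from smul_L (hl g g.2) y]
      exact ⟨1, one_smul _ _⟩
    exact ⟨c, hc.symm⟩
  refine ⟨⟨n + 1, ?_⟩⟩
  rw [derivedSeries_succ, commutator_eq_bot_iff_le_centralizer]
  intro a ha b hb
  refine Subtype.ext (LinearEquiv.ext fun v => ?_)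
  change b.1 (a.1 v) = a.1 (b.1 v)
  refine Submodule.iSup_induction (P.E (P.St u) u) (motive := fun v => b.1 (a.1 v) = a.1 (b.1 v))
    (top ▸ Submodule.mem_top) (fun t y hy => ?_) (by simp only [map_zero]) fun x y hx hy => by simp only [map_add, hx, hy]
  obtain ⟨c, hc⟩ := fx a ha t y hy
  obtain ⟨d, hd⟩ := fx b hb t y hy
  rw [hc, hd, hl b b.2, hl a a.2, hc, hd, smul_comm]

end CL.TC3.StN2
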