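import Cfsg.Agent.PERM.TC3.StN1
import Cfsg.Agent.PERM.TC3.Ext

set_option autoImplicit false
set_option linter.unusedSectionVars false

namespace CL.TC3
open Subgroup

variable {K V M : Type} {r : ℕ} [Fact r.Prime] [Field K] [Finite K] [AddCommGroup V] [Finite V] [Nontrivial V]
  [Module K V] [AddCommGroup M] [Finite M] [Module (ZMod r) M] (P : PR K V M r)

namespace PR.StN3

theorem solv_comm {X : Type*} [Group X] {A B : Subgroup X} (hB : Group.IsSolvable B)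
    (h : ∀ a ∈ A, ∀ b ∈ A, a * b * a⁻¹ * b⁻¹ ∈ B) : Group.IsSolvable A := by
  have : Group.IsSolvable (B.subgroupOf A) :=
    Group.isSolvable_of_isSolvable_injective (f := A.subtype.subgroupComap B)
      fun a b e => Subtype.ext (Subtype.ext (congrArg (fun x : B => (x : X)) e))
  refine Group.isSolvable_of_ker_le_range (B.subgroupOf A).subtype (Abelianization.of (G := A)) ?_
  rw [Abelianization.ker_of, range_subtype]
  exact commutator_le.2 fun a _ b _ => h a a.2 b b.2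

/-- `h` moves the types by `t ↦ t₀ + ε t`. -/
def Ty (u : V) (h : Aut V) (t₀ : M) (ε : ℤ) : Prop :=
  ∀ t, ∀ y ∈ P.E (P.St u) u t, h y ∈ P.E (P.St u) u (t₀ + ε • t)

variable {P} {u : V}

theorem Ty.mul {a b : Aut V} {s t : M} {ε δ : ℤ} (ha : Ty P u a s ε) (hb : Ty P u b t δ) :
    Ty P u (a * b) (s + ε • t) (ε * δ) := fun x y hy => by
  have := ha _ _ (hb x y hy)
  rwa [smul_add, ← add_assoc, ← mul_smul] at this

theorem Ty.inv (u0 : u ≠ 0) {a : Aut V} {s t : M} {ε δ : ℤ} (e : ε * ε = 1) (ha : Ty P u a s ε)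
    (hb : Ty P u a⁻¹ t δ) : Ty P u a⁻¹ (-(ε • s)) ε := fun x y hy => by
  by_cases y0 : y = 0
  · rw [y0, map_zero]; exact zero_mem _
  have h1 := hb x y hy
  have h2 := ha _ _ h1
  rw [ap_inv] at h2
  have h3 := P.type_eq u0 le_rfl y0 hy h2
  rw [P.E_congr u (t' := t + δ • x) fun b hb => ?_]
  · exact h1
  rw [map_add, map_neg, map_zsmul, map_zsmul, h3 b hb, map_add (P.β b) s, map_zsmul, smul_add, ← mul_smul, e, one_smul]
  abel

end PR.StN3

namespace PR.StN3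

theorem stepN (sp : ∀ u : V, P.MaxSt u → ∀ N : Subgroup (Aut V), (∀ h ∈ N, Lin K h) →
      (∀ h ∈ N, ∀ v, ∃ x, ∃ c : K, h v = c • P.ρ x v) →
      (∀ h ∈ N, ∀ t, ∀ y ∈ P.E (P.St u) u t, h y ∈ P.E (P.St u) u t) → Group.IsSolvable N)
    {N : Subgroup (Aut V)} (hl : ∀ h ∈ N, Lin K h) (ho : ∀ h ∈ N, ∀ v, ∃ x, ∃ c : K, h v = c • P.ρ x v) :
    Group.IsSolvable N := by
  obtain ⟨v, v0⟩ := exists_ne (0 : V)
  obtain ⟨u, hu, -⟩ := P.exists_max v0
  have u0 := hu.1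
  have ty : ∀ h ∈ N, ∃ t ε, ε * ε = 1 ∧ Ty P u h t ε := fun h hh => by
    obtain ⟨t, ht | ht⟩ := P.sgn u0 le_rfl h (ho h hh)
    · exact ⟨t, 1, by simp, fun x y hy => by simpa using ht x y hy⟩
    · exact ⟨t, -1, by simp, fun x y hy => by simpa [← sub_eq_add_neg] using ht x y hy⟩
  have inv : ∀ h ∈ N, ∀ t ε, ε * ε = 1 → Ty P u h t ε → Ty P u h⁻¹ (-(ε • t)) ε := fun h hh t ε e ht => by
    obtain ⟨s, δ, -, hs⟩ := ty _ (inv_mem hh)
    exact ht.inv u0 e hs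
  let N₂ : Subgroup (Aut V) :=
    { carrier := {h | h ∈ N ∧ Ty P u h 0 1}
      one_mem' := ⟨one_mem _, fun t y hy => by simpa using hy⟩
      mul_mem' := fun ha hb => ⟨mul_mem ha.1 hb.1, by simpa using ha.2.mul hb.2⟩
      inv_mem' := fun ha => ⟨inv_mem ha.1, by simpa using inv _ ha.1 _ _ (by simp) ha.2⟩ }
  let N₁ : Subgroup (Aut V) :=
    { carrier := {h | h ∈ N ∧ ∃ t, Ty P u h t 1}
      one_mem' := ⟨one_mem _, 0, fun t y hy => by simpa using hy⟩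
      mul_mem' := fun ⟨ha, s, hs⟩ ⟨hb, t, ht⟩ => ⟨mul_mem ha hb, _, by simpa only [mul_one] using hs.mul ht⟩
      inv_mem' := fun ⟨ha, s, hs⟩ => ⟨inv_mem ha, _, inv _ ha _ _ (by simp) hs⟩ }
  have cm : ∀ a ∈ N, ∀ b ∈ N, a * b * a⁻¹ * b⁻¹ ∈ N := fun a ha b hb =>
    mul_mem (mul_mem (mul_mem ha hb) (inv_mem ha)) (inv_mem hb)
  have s2 : Group.IsSolvable N₂ := sp u hu N₂ (fun h hh => hl h hh.1) (fun h hh => ho h hh.1)
    fun h hh t y hy => by simpa using hh.2 t y hy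
  have s1 : Group.IsSolvable N₁ := solv_comm s2 fun a ⟨ha, s, hs⟩ b ⟨hb, t, ht⟩ => ⟨cm a ha b hb, by
    have := ((hs.mul ht).mul (inv a ha _ _ (by simp) hs)).mul (inv b hb _ _ (by simp) ht)
    simp only [mul_one, one_smul] at this
    rwa [show s + t + -s + -t = 0 by abel] at this⟩
  refine solv_comm s1 fun a ha b hb => ⟨cm a ha b hb, ?_⟩
  obtain ⟨s, ε, e, hs⟩ := ty a ha
  obtain ⟨t, δ, d, ht⟩ := ty b hb
  have := ((hs.mul ht).mul (inv a ha _ _ e hs)).mul (inv b hb _ _ d ht)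
  rw [show ε * δ * ε * δ = 1 by linear_combination δ * δ * e + d] at this
  exact ⟨_, this⟩

end PR.StN3

end CL.TC3
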